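import Mathlib

/-!
# Fibres of the affine hull of a flat scheme over a discrete valuation ring
-/

set_option autoImplicit false
set_option linter.all false
set_option backward.isDefEq.respectTransparency false

universe u

open CategoryTheory CategoryTheory.Limits AlgebraicGeometry TopologicalSpace

noncomputable section

namespace GrothLib.AffHull13

theorem comap_span_of_surjective {A B : Type u} [CommRing A] [CommRing B] (φ : A →+* B) (π : A)
    (hπ : RingHom.ker φ = Ideal.span {π}) : φ π = 0 := by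
  rw [← RingHom.mem_ker, hπ]; exact Ideal.mem_span_singleton_self π

variable {A : Type u} [CommRing A] [IsDomain A]

theorem isSMulRegular_of_flat {X : Scheme.{u}} (f : X ⟶ Spec (CommRingCat.of A)) [Flat f]
    (W : X.Opens) (r : Γ(Spec (CommRingCat.of A), ⊤)) (hr : r ≠ 0) (t : Γ(X, W))
    (h : f.appLE ⊤ W le_top r * t = 0) : t = 0 := by
  haveI : IsDomain Γ(Spec (CommRingCat.of A), ⊤) :=
    MulEquiv.isDomain A (Scheme.ΓSpecIso (CommRingCat.of A)).commRingCatIsoToRingEquiv.toMulEquiv
  refine X.IsSheaf.section_ext fun x hx => ?_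
  obtain ⟨V, hV, hxV, hVW⟩ := exists_isAffineOpen_mem_and_subset hx
  refine ⟨V, hVW, hxV, ?_⟩
  have hfl : (f.appLE ⊤ V le_top).hom.Flat := f.flat_appLE (isAffineOpen_top _) hV le_top
  letI := (f.appLE ⊤ V le_top).hom.toAlgebra
  haveI : Module.Flat Γ(Spec (CommRingCat.of A), ⊤) Γ(X, V) := hfl
  rw [map_zero]
  apply Module.Flat.isSMulRegular_of_nonZeroDivisors (M := Γ(X, V)) (mem_nonZeroDivisors_of_ne_zero hr)
  show r • _ = r • (0 : Γ(X, V))
  rw [smul_zero, Algebra.smul_def]
  have := congrArg (X.presheaf.map (homOfLE hVW).op) h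
  rw [map_mul, map_zero, ← CommRingCat.comp_apply, Scheme.Hom.appLE_map] at this
  exact this

variable {X : Scheme.{u}} (f : X ⟶ Spec (CommRingCat.of A)) [QuasiCompact f] [QuasiSeparated f] [Flat f]
  (g : Spec Γ(X, ⊤) ⟶ Spec (CommRingCat.of A)) (hg : X.toSpecΓ ≫ g = f)
  {κ : CommRingCat.{u}} (ψ : CommRingCat.of A ⟶ κ)

abbrev cs : pullback f (Spec.map ψ) ⟶ pullback g (Spec.map ψ) :=
  pullback.map f (Spec.map ψ) g (Spec.map ψ) X.toSpecΓ (𝟙 _) (𝟙 _)
    ((Category.comp_id f).trans hg.symm) ((Category.comp_id _).trans (Category.id_comp _).symm)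

theorem cs_fst : cs f g hg ψ ≫ pullback.fst g (Spec.map ψ) = pullback.fst f (Spec.map ψ) ≫ X.toSpecΓ :=
  pullback.lift_fst _ _ _

theorem cs_snd : cs f g hg ψ ≫ pullback.snd g (Spec.map ψ) = pullback.snd f (Spec.map ψ) :=
  (pullback.lift_snd _ _ _).trans (Category.comp_id _)

instance : QuasiCompact (cs f g hg ψ) := by
  haveI : CompactSpace ↥(pullback f (Spec.map ψ)) :=
    QuasiCompact.compactSpace_of_compactSpace (pullback.snd f (Spec.map ψ))
  exact quasiCompact_of_compactSpace (cs f g hg ψ)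

include hg in
/-- The flat case. -/
theorem injective_appTop_of_flat (hψ : ψ.hom.Flat) :
    Function.Injective (cs f g hg ψ).appTop := by
  haveI : Flat (Spec.map ψ) := Flat.SpecMap_iff.2 hψ
  haveI : CompactSpace X := QuasiCompact.compactSpace_of_compactSpace f
  have H : IsPullback (pullback.fst f (Spec.map ψ)) (pullback.snd f (Spec.map ψ)) f (Spec.map ψ) :=
    IsPullback.of_hasPullback _ _
  have hX : IsCompact ((⊤ : X.Opens) : Set X) := by simpa using isCompact_univ
  haveI hmono := mono_pushoutSection_of_isCompact_of_flat_right H (UT := (⊤ : (Spec κ).Opens))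
    (UX := (⊤ : X.Opens)) (US := ⊤) (by simp) (by simp) (UY := ⊤) (by simp)
    (isAffineOpen_top _) (isAffineOpen_top _) hX
  have hgf : g.appTop ≫ (Scheme.ΓSpecIso Γ(X, ⊤)).hom = f.appTop := by
    rw [← Scheme.toSpecΓ_appTop, ← Scheme.Hom.comp_appTop, hg]
  have hT := (isPushout_appTop_of_isPullback (IsPullback.of_hasPullback g (Spec.map ψ)))
  have hT' : IsPushout f.appTop (Spec.map ψ).appTop
      ((Scheme.ΓSpecIso Γ(X, ⊤)).inv ≫ (pullback.fst g (Spec.map ψ)).appTop)
      (pullback.snd g (Spec.map ψ)).appTop :=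
    hT.of_iso (Iso.refl _) (Scheme.ΓSpecIso Γ(X, ⊤)) (Iso.refl _) (Iso.refl _)
      (by simpa using hgf) (by simp) (by simp) (by simp)
  have hT'' : IsPushout (f.appLE ⊤ ⊤ (by simp)) ((Spec.map ψ).appLE ⊤ ⊤ (by simp))
      ((Scheme.ΓSpecIso Γ(X, ⊤)).inv ≫ (pullback.fst g (Spec.map ψ)).appTop)
      (pullback.snd g (Spec.map ψ)).appTop := by
    have h := hT'
    simp only [Scheme.Hom.appTop, Scheme.Hom.app_eq_appLE] at h ⊢
    exact h
  intro y₁ y₂ hy
  have key : hT''.isoPushout.inv ≫ (cs f g hg ψ).appTop =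
      pushoutSection H (UT := (⊤ : (Spec κ).Opens)) (UX := (⊤ : X.Opens)) (US := ⊤) (by simp) (by simp)
        (UY := ⊤) (by simp) := by
    apply pushout.hom_ext
    · simp only [IsPushout.inl_isoPushout_inv_assoc, pushout.inl_desc, Category.assoc]
      rw [← Scheme.Hom.comp_appTop, cs_fst, Scheme.Hom.comp_appTop, Scheme.toSpecΓ_appTop,
        Iso.inv_hom_id_assoc]
      simp [Scheme.Hom.appTop, Scheme.Hom.app_eq_appLE]
    · simp only [IsPushout.inr_isoPushout_inv_assoc, pushout.inr_desc]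
      rw [← Scheme.Hom.comp_appTop, cs_snd]
      simp [Scheme.Hom.appTop, Scheme.Hom.app_eq_appLE]
  haveI : Mono (hT''.isoPushout.inv ≫ (cs f g hg ψ).appTop) := by rw [key]; exact hmono
  haveI : Mono (cs f g hg ψ).appTop := (mono_comp_iff_of_isIso hT''.isoPushout.inv _).1 inferInstance
  exact (ConcreteCategory.mono_iff_injective_of_preservesPullback _).1 inferInstance hy

include hg in
/-- The case of a principal quotient. -/
theorem injective_appTop_of_surjective (hψ : Function.Surjective ψ) (π : A) (hπ0 : π ≠ 0)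
    (hπ : RingHom.ker ψ.hom = Ideal.span {π}) :
    Function.Injective (cs f g hg ψ).appTop := by
  haveI : IsClosedImmersion (Spec.map ψ) := IsClosedImmersion.spec_of_surjective _ hψ
  haveI : IsClosedImmersion (pullback.fst g (Spec.map ψ)) :=
    MorphismProperty.pullback_fst _ _ inferInstance
  have hsurj : Function.Surjective (pullback.fst g (Spec.map ψ)).appTop :=
    (pullback.fst g (Spec.map ψ)).app_surjective ⊤ (isAffineOpen_top _)
  let r : Γ(Spec (CommRingCat.of A), ⊤) := (Scheme.ΓSpecIso (CommRingCat.of A)).inv π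
  have hr : r ≠ 0 := fun h => hπ0 (by
    have := congrArg (Scheme.ΓSpecIso (CommRingCat.of A)).hom h
    simpa [r, ← CommRingCat.comp_apply] using this)
  have hrκ : (Spec.map ψ).appTop r = 0 := by
    show ((Scheme.ΓSpecIso (CommRingCat.of A)).inv ≫ (Spec.map ψ).appTop) π = 0
    rw [← Scheme.ΓSpecIso_inv_naturality, CommRingCat.comp_apply,
      show ψ π = 0 from comap_span_of_surjective ψ.hom π hπ, map_zero]
  refine (injective_iff_map_eq_zero (cs f g hg ψ).appTop.hom).2 fun y hy => ?_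
  obtain ⟨a, rfl⟩ := hsurj y
  let b := (Scheme.ΓSpecIso Γ(X, ⊤)).hom a
  have hq : (pullback.fst f (Spec.map ψ)).appTop b = 0 := by
    show ((Scheme.ΓSpecIso Γ(X, ⊤)).hom ≫ (pullback.fst f (Spec.map ψ)).appTop) a = 0
    rw [← Scheme.toSpecΓ_appTop, ← Scheme.Hom.comp_appTop, ← cs_fst f g hg ψ,
      Scheme.Hom.comp_appTop]
    exact hy
  -- divisibility on affine opens
  have hloc : ∀ V : X.affineOpens, ∃ c : Γ(X, V.1),
      f.appLE ⊤ V.1 le_top r * c = X.presheaf.map (homOfLE (le_top : V.1 ≤ ⊤)).op b := by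
    rintro ⟨V, hV⟩
    haveI : IsAffine (V : Scheme.{u}) := hV
    let fV := V.ι ≫ f
    let i : pullback fV (Spec.map ψ) ⟶ pullback f (Spec.map ψ) :=
      pullback.map fV (Spec.map ψ) f (Spec.map ψ) V.ι (𝟙 _) (𝟙 _) (by simp [fV]) (by simp)
    have hp := isPushout_appTop_of_isPullback (IsPullback.of_hasPullback fV (Spec.map ψ))
    let bV := V.ι.appTop b
    let rV := fV.appTop r
    let Q := Γ((V : Scheme.{u}), ⊤) ⧸ Ideal.span {rV}
    have hκsurj : Function.Surjective (Spec.map ψ).appTop := by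
      haveI : IsClosedImmersion (Spec.map ψ) := IsClosedImmersion.spec_of_surjective _ hψ
      exact (Spec.map ψ).app_surjective ⊤ (isAffineOpen_top _)
    let φ : Γ(Spec (CommRingCat.of A), ⊤) →+* Q := (Ideal.Quotient.mk _).comp fV.appTop.hom
    have hker : RingHom.ker (Spec.map ψ).appTop.hom ≤ RingHom.ker φ := by
      intro x hx
      obtain ⟨x', rfl⟩ := (ConcreteCategory.bijective_of_isIso (Scheme.ΓSpecIso (CommRingCat.of A)).inv).2 x
      have hx' : ψ x' = 0 := by
        apply (ConcreteCategory.bijective_of_isIso (Scheme.ΓSpecIso κ).inv).1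
        rw [map_zero, ← CommRingCat.comp_apply, Scheme.ΓSpecIso_inv_naturality]
        exact hx
      obtain ⟨t, rfl⟩ := Ideal.mem_span_singleton'.1 (hπ ▸ (show x' ∈ RingHom.ker ψ.hom from hx'))
      show Ideal.Quotient.mk _ (fV.appTop _) = 0
      rw [map_mul, map_mul, Ideal.Quotient.eq_zero_iff_mem]
      exact Ideal.mul_mem_left _ _ (Ideal.mem_span_singleton_self _)
    let φ' : Γ(Spec κ, ⊤) →+* Q := RingHom.liftOfSurjective _ hκsurj ⟨φ, hker⟩
    let d := hp.desc (CommRingCat.ofHom (Ideal.Quotient.mk (Ideal.span {rV}))) (CommRingCat.ofHom φ') (by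
      ext x
      exact (RingHom.liftOfRightInverse_comp_apply _ _ (Function.rightInverse_surjInv hκsurj) ⟨φ, hker⟩ x).symm)
    have h0 : (pullback.fst fV (Spec.map ψ)).appTop bV = 0 := by
      show (V.ι.appTop ≫ (pullback.fst fV (Spec.map ψ)).appTop) b = 0
      rw [← Scheme.Hom.comp_appTop, show pullback.fst fV (Spec.map ψ) ≫ V.ι = i ≫ pullback.fst f (Spec.map ψ)
        from (pullback.lift_fst _ _ _).symm, Scheme.Hom.comp_appTop, CommRingCat.comp_apply, hq, map_zero]
    have h1 : Ideal.Quotient.mk (Ideal.span {rV}) bV = 0 := by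
      have := congrArg d h0
      rwa [map_zero, ← CommRingCat.comp_apply, hp.inl_desc] at this
    obtain ⟨c, hc⟩ := Ideal.mem_span_singleton'.1 (Ideal.Quotient.eq_zero_iff_mem.1 h1)
    refine ⟨V.topIso.hom c, ?_⟩
    have e1 : ∀ z : Γ(X, ⊤), V.topIso.hom (V.ι.appTop z) = X.presheaf.map (homOfLE (le_top : V ≤ ⊤)).op z := by
      intro z
      rw [← CommRingCat.comp_apply]
      congr 2
      simp [Scheme.Opens.topIso, Scheme.Hom.appTop, ← Functor.map_comp]
    rw [← e1 b, show V.ι.appTop b = c * rV from hc.symm, map_mul, mul_comm]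
    congr 1
    show _ = V.topIso.hom ((V.ι ≫ f).appTop r)
    rw [Scheme.Hom.comp_appTop, CommRingCat.comp_apply, e1]
    show _ = (f.appTop ≫ X.presheaf.map _) r
    rw [Scheme.Hom.appTop, Scheme.Hom.app_eq_appLE, Scheme.Hom.appLE_map]
  choose c hc using hloc
  have hres : ∀ (V : X.affineOpens) (W : X.Opens) (h : W ≤ V.1),
      f.appLE ⊤ W le_top r * X.presheaf.map (homOfLE h).op (c V) =
        X.presheaf.map (homOfLE (le_top : W ≤ ⊤)).op b := by
    intro V W h
    have := congrArg (X.presheaf.map (homOfLE h).op) (hc V)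
    rw [map_mul] at this
    refine Eq.trans ?_ (this.trans ?_)
    · congr 1
      exact (ConcreteCategory.congr_hom (f.appLE_map le_top (homOfLE h).op) r).symm
    · rw [← CommRingCat.comp_apply, ← Functor.map_comp]
      rfl
  have hcompat : TopCat.Presheaf.IsCompatible X.sheaf.1 (fun V : X.affineOpens => V.1) c := by
    intro V V'
    refine sub_eq_zero.1 (isSMulRegular_of_flat f _ r hr _ ?_)
    rw [mul_sub, sub_eq_zero]
    exact (hres V _ inf_le_left).trans (hres V' _ inf_le_right).symm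
  obtain ⟨(b' : Γ(X, ⊤)), hb', -⟩ := X.sheaf.existsUnique_gluing' (fun V : X.affineOpens => V.1) ⊤
    (fun V => homOfLE le_top) (iSup_affineOpens_eq_top X).ge c hcompat
  have hb : b = f.appTop r * b' := by
    refine X.IsSheaf.section_ext fun x hx => ?_
    obtain ⟨V, hV, hxV, -⟩ := exists_isAffineOpen_mem_and_subset (U := (⊤ : X.Opens)) (x := x) trivial
    refine ⟨V, le_top, hxV, ?_⟩
    rw [← hc ⟨V, hV⟩, map_mul, ← hb' ⟨V, hV⟩]
    congr 1
  have ha : a = g.appTop r * (Scheme.ΓSpecIso Γ(X, ⊤)).inv b' := by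
    apply (ConcreteCategory.bijective_of_isIso (Scheme.ΓSpecIso Γ(X, ⊤)).hom).1
    show b = _
    rw [hb, map_mul, ← CommRingCat.comp_apply, ← CommRingCat.comp_apply, ← Scheme.toSpecΓ_appTop,
      ← Scheme.Hom.comp_appTop, hg]
    congr 1
    simp [Scheme.toSpecΓ_appTop]
  show (pullback.fst g (Spec.map ψ)).appTop a = 0
  rw [ha, map_mul, ← CommRingCat.comp_apply, ← Scheme.Hom.comp_appTop, pullback.condition,
    Scheme.Hom.comp_appTop, CommRingCat.comp_apply, hrκ, map_zero, zero_mul]

include hg in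
theorem ker_cs_eq_bot (hψ : Function.Injective (cs f g hg ψ).appTop) : (cs f g hg ψ).ker = ⊥ := by
  apply Scheme.IdealSheafData.ext_of_isAffine
  rw [Scheme.Hom.ker_apply, Scheme.IdealSheafData.ideal_bot, Pi.bot_apply]
  exact (RingHom.injective_iff_ker_eq_bot _).1 hψ

end GrothLib.AffHull13
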